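import Groth.Agent.Picfga.GoodTwist
import Groth.Agent.Picfga.CurveP1
import Groth.Agent.Picfga.ChiCech
import Groth.Agent.CurvesB.SubEuler

/-!
# `h⁰ = 1`, `h¹ = 0` in terms of `Coh.HH` (helper663)

`finrank_h0`, `subsingleton_h1`: the conditions `H0one`, `H1van` of `Picfga.P1Def` on the base change of
a curve to a field `K`, read on the cohomology groups.
-/

set_option autoImplicit false
universe u

open CategoryTheory CategoryTheory.Limits AlgebraicGeometry Opposite TopologicalSpace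
open Groth.Agent Groth.Agent.Fdesc.LocGen Groth.Agent.Picfga Groth.Agent.Picfga.P1Def
  Groth.Agent.Picfga.LatH0 Groth.Agent.Grpsch

namespace K663.TwistHH

variable {k : Type u} [Field k] {X : Scheme.{u}} {f : X ⟶ Spec (CommRingCat.of k)}
  (K : Type u) [Field K] (t : Spec (CommRingCat.of K) ⟶ Spec (CommRingCat.of k))

/-- The base change of `X` to `K` as a scheme over `K`. -/
noncomputable abbrev ovr : (PicF.XT f (Over.mk t)).Over (Spec (CommRingCat.of K)) :=
  ⟨pullback.snd f (Over.mk t).hom⟩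

theorem subsingleton_h1 (P : P1Data f) (M : (PicF.XT f (Over.mk t)).Modules) (hM : Coh.IsQCoh M)
    (h : H1van P (Over.mk t) M) :
    letI := ovr (f := f) K t
    Subsingleton (Coh.HH (PicF.XT f (Over.mk t)) M 1) := by
  letI := ovr (f := f) K t
  have hT : IsAffine (Over.mk t).left := inferInstanceAs (IsAffine (Spec (CommRingCat.of K)))
  have ha : ∀ {V : X.Opens}, IsAffineOpen V → IsAffineOpen (UT f (Over.mk t) V) :=
    fun hV => SecBC.isAffineOpen_UT (T := Over.mk t) f hV
  have hs := ChiCech.h1Map_surjective K M hM (UT_sup P (Over.mk t)) (ha P.affine₀) (ha P.affine₁)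
  refine ⟨fun x y => ?_⟩
  suffices H : ∀ x : Coh.HH (PicF.XT f (Over.mk t)) M 1, x = 0 by rw [H x, H y]
  intro x
  obtain ⟨z, rfl⟩ := hs x
  have : z ∈ LinearMap.ker (ChiCech.h1Map K M (UT_sup P (Over.mk t))) := by
    rw [ChiCech.ker_h1Map]
    obtain ⟨a, b, e⟩ := h z
    refine ⟨(a, -b), ?_⟩
    rw [ChiCech.cechD_apply]
    refine Eq.trans ?_ e.symm
    have e2 : ∀ p q q' : ChiCech.SecA K M (UT f (Over.mk t) P.U₀ ⊓ UT f (Over.mk t) P.U₁), q' = -q →
        p - q' = p + q := by
      rintro p q q' rfl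
      exact sub_neg_eq_add p q
    exact e2 _ _ _ (map_neg (res M _) b)
  exact this

theorem finrank_h0 (M : (PicF.XT f (Over.mk t)).Modules) (h : H0one f (Over.mk t) M) :
    letI := ovr (f := f) K t
    Module.finrank K (Coh.HH (PicF.XT f (Over.mk t)) M 0) = 1 := by
  letI := ovr (f := f) K t
  obtain ⟨s, hs⟩ := h
  rw [(ChiCech.h0Top K M).finrank_eq]
  have key : ∀ (c : K) (m : Γ(M, ⊤)), (c • (ChiCech.toSecA m : ChiCech.SecA K M ⊤)) =
      ChiCech.toSecA (fn f (Over.mk t) ((Scheme.ΓSpecIso (CommRingCat.of K)).inv.hom c) • m) := by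
    intro c m
    rw [ChiCech.toSecA_smul]
    congr 2
    exact ores_refl _
  refine finrank_eq_one_iff'.mpr ⟨ChiCech.toSecA s, ?_, fun w => ?_⟩
  · intro h0
    have hs0 : s = 0 := h0
    have h1 := (hs 0).unique (y₁ := 0) (y₂ := 1) (by rw [hs0, smul_zero]) (by rw [hs0, smul_zero])
    have h2 : (0 : K) = 1 := by
      have h3 := congrArg (Scheme.ΓSpecIso (CommRingCat.of K)).hom.hom h1
      rwa [map_zero, map_one] at h3
    exact zero_ne_one h2
  · obtain ⟨c, hc, -⟩ := hs (ChiCech.toSecA.symm w)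
    refine ⟨(Scheme.ΓSpecIso (CommRingCat.of K)).hom.hom c, ?_⟩
    rw [key]
    have h1 : (Scheme.ΓSpecIso (CommRingCat.of K)).inv.hom
        ((Scheme.ΓSpecIso (CommRingCat.of K)).hom.hom c) = c :=
      (Scheme.ΓSpecIso (CommRingCat.of K)).hom_inv_id_apply c
    rw [h1, ← hc]
    rfl

end K663.TwistHH
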